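import Cfsg.Agent.Lib.UnitaryUnip.CentralizerCount

/-!
The block ring as a product of matrix rings.
-/

set_option autoImplicit false
set_option linter.unusedSectionVars false

namespace CfsgLib.UnitaryUnip

open Matrix

variable {K : Type*} [Field K] [Fintype K] {t : ℕ} {d : Fin t → ℕ} {M : ℕ}

/-- `Fin t` sliced by the value of `d`. -/
def fibreEquiv (hM : ∀ k, d k < M) : ((i : Fin M) × {k : Fin t // d k = (i : ℕ)}) ≃ Fin t where
  toFun z := z.2.1
  invFun k := ⟨⟨d k, hM k⟩, ⟨k, rfl⟩⟩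
  left_inv := by rintro ⟨⟨i, hi⟩, k, hk⟩; cases hk; rfl
  right_inv _ := rfl

/-- A family of square matrices as a block matrix. -/
def blockOf (hM : ∀ k, d k < M)
    (F : (i : Fin M) → Matrix {k : Fin t // d k = (i : ℕ)} {k : Fin t // d k = (i : ℕ)} K) :
    Matrix (Fin t) (Fin t) K :=
  Matrix.reindex (fibreEquiv hM) (fibreEquiv hM) (Matrix.blockDiagonal' F)

theorem blockOf_injective (hM : ∀ k, d k < M) : Function.Injective (blockOf (K := K) hM) :=
  fun _ _ h => Matrix.blockDiagonal'_injective ((Matrix.reindex _ _).injective h)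

theorem blockOf_mul (hM : ∀ k, d k < M)
    (F G : (i : Fin M) → Matrix {k : Fin t // d k = (i : ℕ)} {k : Fin t // d k = (i : ℕ)} K) :
    blockOf hM F * blockOf hM G = blockOf hM (fun i => F i * G i) := by
  rw [blockOf, blockOf, blockOf, Matrix.blockDiagonal'_mul]
  exact (map_mul (Matrix.reindexAlgEquiv K K (fibreEquiv hM)) _ _).symm

theorem blockOf_one (hM : ∀ k, d k < M) : blockOf (K := K) hM (fun _ => 1) = 1 := by
  rw [blockOf, show (fun i : Fin M => (1 : Matrix {k : Fin t // d k = (i : ℕ)} _ K)) = 1 from rfl,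
    Matrix.blockDiagonal'_one]
  exact map_one (Matrix.reindexAlgEquiv K K (fibreEquiv hM))

theorem conjT_blockOf (τ : K →+* K) (hM : ∀ k, d k < M)
    (F : (i : Fin M) → Matrix {k : Fin t // d k = (i : ℕ)} {k : Fin t // d k = (i : ℕ)} K) :
    conjT τ (blockOf hM F) = blockOf hM (fun i => conjT τ (F i)) := by
  simp only [blockOf, conjT]
  rw [← Matrix.blockDiagonal'_transpose, ← Matrix.blockDiagonal'_map _ _ (map_zero τ)]
  rfl

theorem exists_blockOf (hM : ∀ k, d k < M) {B : Matrix (Fin t) (Fin t) K} (hB : B ∈ blockRing d) :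
    ∃ F, blockOf hM F = B := by
  refine ⟨fun i => Matrix.of fun a b => B a.1 b.1, ?_⟩
  ext k l
  obtain ⟨⟨i, a⟩, rfl⟩ := (fibreEquiv hM).surjective k
  obtain ⟨⟨j, b⟩, rfl⟩ := (fibreEquiv hM).surjective l
  simp only [blockOf, Matrix.reindex_apply, Matrix.submatrix_apply, Equiv.symm_apply_apply]
  by_cases hij : i = j
  · subst hij
    rw [Matrix.blockDiagonal'_apply_eq]
    rfl
  · rw [Matrix.blockDiagonal'_apply_ne _ _ _ hij]
    refine (hB _ _ ?_).symm
    show d a.1 ≠ d b.1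
    rw [a.2, b.2]
    exact fun h => hij (Fin.ext h)

theorem blockOf_mem (hM : ∀ k, d k < M)
    (F : (i : Fin M) → Matrix {k : Fin t // d k = (i : ℕ)} {k : Fin t // d k = (i : ℕ)} K) :
    blockOf hM F ∈ blockRing d := by
  intro k l hkl
  obtain ⟨⟨i, a⟩, rfl⟩ := (fibreEquiv hM).surjective k
  obtain ⟨⟨j, b⟩, rfl⟩ := (fibreEquiv hM).surjective l
  simp only [blockOf, Matrix.reindex_apply, Matrix.submatrix_apply, Equiv.symm_apply_apply]
  refine Matrix.blockDiagonal'_apply_ne _ _ _ fun hij => hkl ?_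
  show d a.1 = d b.1
  rw [a.2, b.2, hij]

theorem isUnit_blockOf (hM : ∀ k, d k < M)
    (F : (i : Fin M) → Matrix {k : Fin t // d k = (i : ℕ)} {k : Fin t // d k = (i : ℕ)} K) :
    IsUnit (blockOf hM F) ↔ ∀ i, IsUnit (F i) := by
  constructor
  · rintro ⟨u, hu⟩ i
    have hinv : (↑u⁻¹ : Matrix (Fin t) (Fin t) K) ∈ blockRing d := by
      have : u⁻¹ = u ^ (orderOf u - 1) := by
        refine inv_eq_of_mul_eq_one_right ?_
        rw [← pow_succ', Nat.sub_add_cancel (orderOf_pos u), pow_orderOf_eq_one]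
      rw [this, Units.val_pow_eq_pow_val]
      exact pow_mem (by rw [hu]; exact blockOf_mem hM F) _
    obtain ⟨G, hG⟩ := exists_blockOf hM hinv
    refine IsUnit.of_mul_eq_one (G i) ?_
    have h1 : blockOf hM (fun j => F j * G j) = blockOf hM (fun _ => 1) := by
      rw [← blockOf_mul, hG, ← hu, Units.mul_inv, blockOf_one]
    exact congrFun (blockOf_injective hM h1) i
  · intro h
    choose u hu using h
    refine IsUnit.of_mul_eq_one (blockOf hM fun i => (↑(u i)⁻¹ : Matrix _ _ K)) ?_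
    rw [blockOf_mul, show (fun i => F i * (↑(u i)⁻¹ : Matrix _ _ K)) = fun _ => 1 from
      funext fun i => by rw [← hu i, Units.mul_inv], blockOf_one]

theorem card_blockRing_pi (hM : ∀ k, d k < M) (P : Matrix (Fin t) (Fin t) K → Prop)
    (Q : (i : Fin M) → Matrix {k : Fin t // d k = (i : ℕ)} {k : Fin t // d k = (i : ℕ)} K → Prop)
    (hPQ : ∀ F, P (blockOf hM F) ↔ ∀ i, Q i (F i)) :
    Nat.card {B : Matrix (Fin t) (Fin t) K // B ∈ blockRing d ∧ P B} =
      ∏ i, Nat.card {X // Q i X} := by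
  rw [← Nat.card_pi, ← Nat.card_congr (Equiv.subtypePiEquivPi (p := Q))]
  refine (Nat.card_eq_of_bijective
    (fun F => (⟨blockOf hM F.1, blockOf_mem hM F.1, (hPQ _).2 F.2⟩ :
      {B : Matrix (Fin t) (Fin t) K // B ∈ blockRing d ∧ P B})) ⟨?_, ?_⟩).symm
  · exact fun _ _ h => Subtype.ext (blockOf_injective hM (congrArg Subtype.val h))
  · rintro ⟨B, hB, hPB⟩
    obtain ⟨F, rfl⟩ := exists_blockOf hM hB
    exact ⟨⟨F, (hPQ _).1 hPB⟩, rfl⟩

/-- Isometries of the standard Hermitian form on any finite index type. -/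
theorem card_isometry_conjT {q : ℕ} (hK : Fintype.card K = q ^ 2) (τ : K →+* K)
    (hτq : ∀ x, τ x = x ^ q) (β : Type*) [Fintype β] [DecidableEq β] :
    Nat.card {X : Matrix β β K // conjT τ X * X = 1} = Nat.card (Cfsg.GU (Fintype.card β) K q) := by
  let ρ := Matrix.reindexAlgEquiv K K (Fintype.equivFin β)
  have hρ : ∀ X : Matrix β β K,
      conjT τ X * X = 1 ↔ IsomConj.ctr q (ρ X) * ρ X = 1 := fun X => by
    have e : IsomConj.ctr q (ρ X) = ρ (conjT τ X) := by
      ext i j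
      exact (hτq _).symm
    rw [e, ← map_mul, map_eq_one_iff ρ ρ.injective]
  refine Nat.card_eq_of_bijective
    (fun X => (⟨(IsUnit.of_mul_eq_one_right _ ((hρ X.1).1 X.2)).unit,
      (IsomConj.mem_GU_iff_ctr hK).2 (by rw [IsUnit.unit_spec]; exact (hρ X.1).1 X.2)⟩ :
        Cfsg.GU (Fintype.card β) K q)) ⟨fun X Y h => ?_, fun g => ?_⟩
  · refine Subtype.ext (ρ.injective ?_)
    have := congrArg (fun z : Cfsg.GU (Fintype.card β) K q =>
      ((z : GL (Fin (Fintype.card β)) K) : Matrix (Fin (Fintype.card β)) (Fin (Fintype.card β)) K)) h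
    simpa only [IsUnit.unit_spec] using this
  · refine ⟨⟨ρ.symm ((g : GL (Fin (Fintype.card β)) K) : Matrix _ _ K), (hρ _).2 ?_⟩,
      Subtype.ext (Units.ext ?_)⟩
    · rw [AlgEquiv.apply_symm_apply]; exact (IsomConj.mem_GU_iff_ctr hK).1 g.2
    · rw [IsUnit.unit_spec, AlgEquiv.apply_symm_apply]

/-- Invertible matrices. -/
theorem card_isUnit_matrix (β : Type*) [Fintype β] [DecidableEq β] :
    Nat.card {X : Matrix β β K // IsUnit X} =
      ∏ j : Fin (Fintype.card β), (Fintype.card K ^ Fintype.card β - Fintype.card K ^ (j : ℕ)) := by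
  let ρ := Matrix.reindexAlgEquiv K K (Fintype.equivFin β)
  rw [← Matrix.card_GL_field]
  refine (Nat.card_eq_of_bijective
    (fun g : GL (Fin (Fintype.card β)) K => (⟨ρ.symm (g : Matrix _ _ K), g.isUnit.map ρ.symm⟩ :
      {X : Matrix β β K // IsUnit X})) ⟨fun g h e => ?_, fun X => ?_⟩).symm
  · exact Units.ext (ρ.symm.injective (congrArg Subtype.val e))
  · refine ⟨(X.2.map ρ).unit, Subtype.ext ?_⟩
    show ρ.symm ((X.2.map ρ).unit : Matrix _ _ K) = X.1
    rw [IsUnit.unit_spec, AlgEquiv.symm_apply_apply]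

end CfsgLib.UnitaryUnip
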