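import Cfsg.Agent.Lib.UnitaryUnip.SelfAdjoint

/-!
The Cayley transform of a Hermitian nilpotent matrix.
-/

set_option autoImplicit false
set_option linter.unusedSectionVars false

namespace CfsgLib.UnitaryUnip

open Matrix CfsgLib.UnitaryEmbed CfsgLib.IsomConj

variable {K : Type*} [Field K] [Fintype K] {n q : ℕ}

/-- A Hermitian nilpotent matrix gives a unipotent unitary element with the same centraliser and
the same ranks. -/
theorem exists_cayley (hK : Fintype.card K = q ^ 2) (τ : K →+* K) (hτq : ∀ x, τ x = x ^ q)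
    (hτ : ∀ x, τ (τ x) = x) (hne : τ ≠ RingHom.id K) {N : Matrix (Fin n) (Fin n) K}
    (hN : IsNilpotent N) (hNτ : conjT τ N = N) :
    ∃ x : Cfsg.GU n K q, IsNilpotent (((x : GL (Fin n) K) : Matrix (Fin n) (Fin n) K) - 1) ∧
      (∀ j, ((((x : GL (Fin n) K) : Matrix (Fin n) (Fin n) K) - 1) ^ j).rank = (N ^ j).rank) ∧
      ∀ h : Matrix (Fin n) (Fin n) K,
        Commute h ((x : GL (Fin n) K) : Matrix (Fin n) (Fin n) K) ↔ Commute h N := by
  obtain ⟨c, hc⟩ : ∃ c, τ c ≠ c := by
    by_contra hall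
    push Not at hall
    exact hne (RingHom.ext hall)
  obtain ⟨u, hu⟩ : IsUnit (1 + τ c • N) := IsNilpotent.isUnit_one_add (hN.smul (τ c))
  let U : Matrix (Fin n) (Fin n) K := (↑u⁻¹ : Matrix (Fin n) (Fin n) K)
  have hcu : Commute N (u : Matrix (Fin n) (Fin n) K) := by
    rw [hu]; exact (Commute.one_right N).add_right ((Commute.refl N).smul_right _)
  have hcU : Commute N U := hcu.units_inv_right
  let X : Matrix (Fin n) (Fin n) K := (1 + c • N) * U
  have h3 : conjT τ (1 + c • N) = (u : Matrix (Fin n) (Fin n) K) := by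
    rw [hu, conjT_add, conjT_one, conjT_smul, hNτ]
  have h2 : conjT τ U * (1 + c • N) = 1 := by
    have e1 : conjT τ U * conjT τ (u : Matrix (Fin n) (Fin n) K) = conjT τ ((u : Matrix _ _ K) * U) :=
      (conjT_mul τ _ _).symm
    rw [Units.mul_inv, conjT_one, ← h3, conjT_conjT τ hτ] at e1
    exact e1
  have hXu : conjT τ X * X = 1 := by
    have h4 : Commute (u : Matrix (Fin n) (Fin n) K) (1 + c • N) :=
      (Commute.one_right _).add_right (hcu.symm.smul_right _)
    calc conjT τ X * X = conjT τ U * ((u : Matrix (Fin n) (Fin n) K) * (1 + c • N)) * U := by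
          rw [conjT_mul, h3]; simp only [X, Matrix.mul_assoc]
      _ = conjT τ U * (1 + c • N) * ((u : Matrix (Fin n) (Fin n) K) * U) := by
          rw [h4.eq]; simp only [Matrix.mul_assoc]
      _ = 1 := by rw [h2, Units.mul_inv, mul_one]
  obtain ⟨x, hx⟩ : ∃ x : GL (Fin n) K, (x : Matrix (Fin n) (Fin n) K) = X :=
    ⟨(IsUnit.of_mul_eq_one_right _ hXu).unit, IsUnit.unit_spec _⟩
  have hmem : x ∈ Cfsg.GU n K q := by
    rw [mem_GU_iff_ctr hK, hx, show ctr q X = conjT τ X by ext a b; exact (hτq _).symm]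
    exact hXu
  have hx1 : (x : Matrix (Fin n) (Fin n) K) - 1 = N * ((c - τ c) • U) := by
    calc (x : Matrix (Fin n) (Fin n) K) - 1
        = (1 + c • N) * U - (u : Matrix (Fin n) (Fin n) K) * U := by rw [hx, Units.mul_inv]
      _ = _ := ?_
    rw [← sub_mul, hu, add_sub_add_left_eq_sub, ← sub_smul, Matrix.smul_mul, Matrix.mul_smul]
  have hV : IsUnit ((c - τ c) • U) := by
    rw [Algebra.smul_def]
    exact ((isUnit_iff_ne_zero.2 (sub_ne_zero.2 (Ne.symm hc))).map
      (algebraMap K (Matrix (Fin n) (Fin n) K))).mul (u⁻¹).isUnit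
  have hxpow : ∀ j, ((x : Matrix (Fin n) (Fin n) K) - 1) ^ j = N ^ j * ((c - τ c) • U) ^ j := fun j => by
    rw [hx1, (hcU.smul_right _).mul_pow]
  refine ⟨⟨x, hmem⟩, ?_, fun j => ?_, fun h => ⟨fun hh => ?_, fun hh => ?_⟩⟩
  · obtain ⟨j, hj⟩ := hN
    exact ⟨j, by rw [hxpow, hj, Matrix.zero_mul]⟩
  · rw [hxpow, Matrix.rank_mul_eq_left_of_isUnit_det _ _ ((Matrix.isUnit_iff_isUnit_det _).1 (hV.pow j))]
  · -- recover `N` as a rational function of `x`
    have hd : IsUnit (c • (1 : Matrix (Fin n) (Fin n) K) - τ c • (x : Matrix (Fin n) (Fin n) K)) := by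
      have e : c • (1 : Matrix (Fin n) (Fin n) K) - τ c • (x : Matrix (Fin n) (Fin n) K) = (c - τ c) • U := by
        have e1 : (c • (1 : Matrix (Fin n) (Fin n) K) - τ c • (x : Matrix (Fin n) (Fin n) K)) *
            (u : Matrix (Fin n) (Fin n) K) = (c - τ c) • 1 := by
          rw [hx, sub_mul, Matrix.smul_mul, Matrix.smul_mul, one_mul,
            show X * (u : Matrix (Fin n) (Fin n) K) = 1 + c • N by
              simp only [X, U, Matrix.mul_assoc, Units.inv_mul, mul_one], hu]
          module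
        calc _ = (c • (1 : Matrix (Fin n) (Fin n) K) - τ c • (x : Matrix (Fin n) (Fin n) K)) *
              (u : Matrix (Fin n) (Fin n) K) * U := by rw [Matrix.mul_assoc, Units.mul_inv, mul_one]
          _ = _ := by rw [e1, Matrix.smul_mul, one_mul]
      rw [e]
      exact hV
    obtain ⟨D, hD⟩ := hd
    have hND : N * (D : Matrix (Fin n) (Fin n) K) = (x : Matrix (Fin n) (Fin n) K) - 1 := by
      rw [hx1, hD]
      congr 1
      have e1 : (c • (1 : Matrix (Fin n) (Fin n) K) - τ c • (x : Matrix (Fin n) (Fin n) K)) *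
          (u : Matrix (Fin n) (Fin n) K) = (c - τ c) • 1 := by
        rw [hx, sub_mul, Matrix.smul_mul, Matrix.smul_mul, one_mul,
          show X * (u : Matrix (Fin n) (Fin n) K) = 1 + c • N by
            simp only [X, U, Matrix.mul_assoc, Units.inv_mul, mul_one], hu]
        module
      calc c • (1 : Matrix (Fin n) (Fin n) K) - τ c • (x : Matrix (Fin n) (Fin n) K)
          = (c • (1 : Matrix (Fin n) (Fin n) K) - τ c • (x : Matrix (Fin n) (Fin n) K)) *
              (u : Matrix (Fin n) (Fin n) K) * U := by rw [Matrix.mul_assoc, Units.mul_inv, mul_one]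
        _ = _ := by rw [e1, Matrix.smul_mul, one_mul]
    have hhD : Commute h (D : Matrix (Fin n) (Fin n) K) := by
      rw [hD]; exact ((Commute.one_right h).smul_right _).sub_right (hh.smul_right _)
    have hN' : N = ((x : Matrix (Fin n) (Fin n) K) - 1) * (↑D⁻¹ : Matrix (Fin n) (Fin n) K) := by
      rw [← hND, Units.mul_inv_cancel_right]
    rw [hN']
    exact (hh.sub_right (Commute.one_right _)).mul_right hhD.units_inv_right
  · show Commute h (x : Matrix (Fin n) (Fin n) K)
    rw [hx]
    refine ((Commute.one_right h).add_right (hh.smul_right _)).mul_right (Commute.units_inv_right ?_)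
    rw [hu]; exact (Commute.one_right h).add_right (hh.smul_right _)

end CfsgLib.UnitaryUnip
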