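import Cfsg.Agent.Lib.UnitaryUnip.ShiftCommutant
import Cfsg.Agent.Lib.UnitaryUnip.Cayley

/-!
Counting isometries in the commutant of a shift.
-/

set_option autoImplicit false
set_option linter.unusedSectionVars false

namespace CfsgLib.UnitaryUnip

open Matrix CfsgLib.IsomConj

variable {K : Type*} [Field K] [Fintype K]

/-- Fibres of an additive map: `#(preimage of X) = #kernel * #X`. -/
theorem card_preimage {A B : Type*} [AddGroup A] [Finite A] [AddGroup B] [Finite B] (f : A →+ B)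
    (X : B → Prop) (hX : ∀ b, X b → ∃ a, f a = b) :
    Nat.card {a // X (f a)} = Nat.card f.ker * Nat.card {b // X b} := by
  choose s hs using hX
  rw [← Nat.card_prod]
  refine Nat.card_congr
    { toFun := fun a => (⟨a.1 - s (f a.1) a.2, by rw [AddMonoidHom.mem_ker, map_sub, hs, sub_self]⟩, ⟨f a.1, a.2⟩)
      invFun := fun z => ⟨z.1.1 + s z.2.1 z.2.2, by
        rw [map_add, hs, AddMonoidHom.mem_ker.1 z.1.2, zero_add]; exact z.2.2⟩
      left_inv := fun a => Subtype.ext (by simp)
      right_inv := ?_ }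
  rintro ⟨⟨a, ha⟩, b, hb⟩
  have e : f (a + s b hb) = b := by rw [map_add, hs, AddMonoidHom.mem_ker.1 ha, zero_add]
  refine Prod.ext (Subtype.ext ?_) (Subtype.ext e)
  show a + s b hb - s (f (a + s b hb)) _ = a
  simp only [e, add_sub_cancel_right]

variable {α : Type*} [Fintype α] [DecidableEq α]

/-- Units of a finite ring with an anti-involution: isometries times Hermitian units. -/
theorem card_units_eq_mul (τ : K →+* K) (hne : τ ≠ RingHom.id K) (R : Subring (Matrix α α K))
    (hsc : ∀ c : K, Matrix.scalar α c ∈ R) (σ : Matrix α α K → Matrix α α K)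
    (hadd : ∀ a b, σ (a + b) = σ a + σ b) (hmul : ∀ a b, σ (a * b) = σ b * σ a)
    (hinv : ∀ a, σ (σ a) = a) (hσc : ∀ c : K, σ (Matrix.scalar α c) = Matrix.scalar α (τ c))
    (hσR : ∀ a ∈ R, σ a ∈ R) :
    Nat.card {a : Matrix α α K // a ∈ R ∧ IsUnit a} =
      Nat.card {a : Matrix α α K // a ∈ R ∧ σ a * a = 1} *
        Nat.card {a : Matrix α α K // a ∈ R ∧ IsUnit a ∧ σ a = a} := by
  classical
  obtain ⟨c, hc⟩ : ∃ c, τ c ≠ c := by
    by_contra hall
    push Not at hall
    exact hne (RingHom.ext hall)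
  have hσ1 : σ 1 = 1 := by
    have := hmul (σ 1) 1
    rwa [mul_one, hinv, mul_one, eq_comm] at this
  have hscc : ∀ (d : K) (M : Matrix α α K), Matrix.scalar α d * M = M * Matrix.scalar α d :=
    fun d M => Matrix.scalar_commute d (fun r' => mul_comm d r') M
  have hRinv : ∀ u : (Matrix α α K)ˣ, (u : Matrix α α K) ∈ R → (↑u⁻¹ : Matrix α α K) ∈ R := fun u hu => by
    have : u⁻¹ = u ^ (orderOf u - 1) := by
      refine inv_eq_of_mul_eq_one_right ?_
      rw [← pow_succ', Nat.sub_add_cancel (orderOf_pos u), pow_orderOf_eq_one]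
    rw [this, Units.val_pow_eq_pow_val]
    exact pow_mem hu _
  have hσu : ∀ a : Matrix α α K, IsUnit a → IsUnit (σ a) := fun a ha => by
    obtain ⟨u, rfl⟩ := ha
    exact IsUnit.of_mul_eq_one _ (by rw [← hmul, Units.inv_mul, hσ1] : σ (u : Matrix α α K) * σ (↑u⁻¹ : Matrix α α K) = 1)
  have hfib : ∀ a : {a : Matrix α α K // a ∈ R ∧ IsUnit a ∧ σ a = a},
      ∃ b : Matrix α α K, b ∈ R ∧ IsUnit b ∧ σ b * b = a.1 := by
    rintro ⟨a, haR, hau, hasym⟩
    let G : Set (Matrix α α K) := {a, Matrix.scalar α c, Matrix.scalar α (τ c)}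
    obtain ⟨b, hbQ, hb⟩ := exists_star_mul_self (A := Matrix α α K) σ hadd hmul hinv G
      (by rintro x (rfl | rfl | rfl) y (rfl | rfl | rfl) <;>
        first | rfl | exact hscc _ _ | exact (hscc _ _).symm)
      (by
        rintro x (rfl | rfl | rfl)
        · rw [hasym]; exact Subring.subset_closure (Or.inl rfl)
        · rw [hσc]; exact Subring.subset_closure (Or.inr (Or.inr rfl))
        · rw [← hσc, hinv]; exact Subring.subset_closure (Or.inr (Or.inl rfl)))
      (Matrix.scalar α c) (Subring.subset_closure (Or.inr (Or.inl rfl)))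
      (by rw [hσc, ← map_sub]; exact (isUnit_iff_ne_zero.2 (sub_ne_zero.2 (Ne.symm hc))).map _)
      a (Subring.subset_closure (Or.inl rfl)) hau hasym
    refine ⟨b, Subring.closure_le.2 ?_ hbQ, ?_, hb⟩
    · rintro x (rfl | rfl | rfl)
      exacts [haR, hsc _, hsc _]
    · rw [← hb, Matrix.isUnit_iff_isUnit_det, Matrix.det_mul, IsUnit.mul_iff] at hau
      exact (Matrix.isUnit_iff_isUnit_det _).2 hau.2
  choose s hsR hsu hs using hfib
  rw [← Nat.card_prod]
  refine Nat.card_eq_of_bijective (α := {a : Matrix α α K // a ∈ R ∧ IsUnit a})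
    (fun a =>
      let z : {a : Matrix α α K // a ∈ R ∧ IsUnit a ∧ σ a = a} :=
        ⟨σ a.1 * a.1, mul_mem (hσR _ a.2.1) a.2.1, (hσu _ a.2.2).mul a.2.2, by rw [hmul, hinv]⟩
      (⟨a.1 * ↑(hsu z).unit⁻¹, mul_mem a.2.1 (hRinv _ (hsR z)), by
        rw [hmul, mul_assoc, ← mul_assoc (σ a.1), ← (show σ (s z) * s z = σ a.1 * a.1 from hs z),
          ← mul_assoc, ← mul_assoc, ← hmul]
        have : (s z) * (↑(hsu z).unit⁻¹ : Matrix α α K) = 1 := (hsu z).mul_val_inv
        rw [mul_assoc, this, hσ1, mul_one]⟩, z)) ⟨?_, ?_⟩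
  · intro a b h
    simp only [Prod.mk.injEq, Subtype.mk.injEq] at h
    obtain ⟨h1, h2⟩ := h
    refine Subtype.ext ?_
    simp only [h2] at h1
    exact (Units.isUnit _).mul_right_cancel h1
  · rintro ⟨⟨u, huR, hu⟩, z⟩
    have hz : σ (u * s z) * (u * s z) = z.1 := by
      rw [hmul, mul_assoc, ← mul_assoc (σ u), hu, one_mul, hs]
    refine ⟨⟨u * s z, mul_mem huR (hsR z), (IsUnit.of_mul_eq_one_right _ hu).mul (hsu z)⟩, ?_⟩
    have hzz : (⟨σ (u * s z) * (u * s z), mul_mem (hσR _ (mul_mem huR (hsR z))) (mul_mem huR (hsR z)),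
        (hσu _ ((IsUnit.of_mul_eq_one_right _ hu).mul (hsu z))).mul ((IsUnit.of_mul_eq_one_right _ hu).mul (hsu z)),
        by rw [hmul, hinv]⟩ : {a : Matrix α α K // a ∈ R ∧ IsUnit a ∧ σ a = a}) = z := Subtype.ext hz
    simp only [hzz]
    refine Prod.ext (Subtype.ext ?_) rfl
    show u * s z * (↑(hsu z).unit⁻¹ : Matrix α α K) = u
    rw [mul_assoc, (hsu z).mul_val_inv, mul_one]

variable {t : ℕ} {d : Fin t → ℕ} (hd : ∀ k, 0 < d k) (τ : K →+* K)

/-- The commutant of the shift. -/
def commutantRing (d : Fin t → ℕ) : Subring (Matrix (Ix d) (Ix d) K) := Subring.centralizer {jshift d}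

/-- The block ring. -/
def blockRing (d : Fin t → ℕ) : Subring (Matrix (Fin t) (Fin t) K) where
  carrier := {B | IsBlock d B}
  one_mem' k l h := Matrix.one_apply_ne fun e => h (congrArg d e)
  mul_mem' {A B} hA hB k l h := by
    rw [Matrix.mul_apply]
    refine Finset.sum_eq_zero fun m _ => ?_
    by_cases hkm : d k = d m
    · rw [hB m l fun h' => h (hkm.trans h'), mul_zero]
    · rw [hA k m hkm, zero_mul]
  zero_mem' _ _ _ := rfl
  add_mem' {A B} hA hB k l h := by rw [Matrix.add_apply, hA k l h, hB k l h, add_zero]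
  neg_mem' {A} hA k l h := by rw [Matrix.neg_apply, hA k l h, neg_zero]

theorem mem_commutantRing {h : Matrix (Ix d) (Ix d) K} :
    h ∈ commutantRing d ↔ Commute h (jshift d) := by
  rw [commutantRing, Subring.mem_centralizer_iff]
  exact ⟨fun e => (e _ rfl).symm, fun e z hz => by rw [Set.mem_singleton_iff.1 hz]; exact e.symm⟩

theorem jstar_add (a b : Matrix (Ix d) (Ix d) K) : jstar d τ (a + b) = jstar d τ a + jstar d τ b := by
  simp only [jstar, conjT_add, Matrix.mul_add, Matrix.add_mul]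

theorem jstar_mul (a b : Matrix (Ix d) (Ix d) K) : jstar d τ (a * b) = jstar d τ b * jstar d τ a := by
  simp only [jstar, conjT_mul, Matrix.mul_assoc]
  rw [← Matrix.mul_assoc (jrev d) (jrev d) (conjT τ a * _), revM_mul_self, one_mul]

theorem jstar_jstar (hτ : ∀ x, τ (τ x) = x) (a : Matrix (Ix d) (Ix d) K) :
    jstar d τ (jstar d τ a) = a := by
  simp only [jstar, conjT_mul, conjT_revM, conjT_conjT τ hτ, Matrix.mul_assoc, revM_mul_self, mul_one]
  rw [← Matrix.mul_assoc, revM_mul_self, one_mul]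

theorem conjT_scalar {β : Type*} [Fintype β] [DecidableEq β] (c : K) :
    conjT τ (Matrix.scalar β c) = Matrix.scalar β (τ c) := by
  ext i j; by_cases hij : i = j <;> simp [conjT, Matrix.scalar_apply, hij, Ne.symm]

theorem jstar_scalar (c : K) : jstar d τ (Matrix.scalar (Ix d) c) = Matrix.scalar (Ix d) (τ c) := by
  rw [jstar, conjT_scalar, Matrix.mul_assoc,
    (Matrix.scalar_commute (τ c) (fun r' => mul_comm _ r') _).eq, ← Matrix.mul_assoc, revM_mul_self, one_mul]

include hd in
/-- The isometries commuting with the shift, in terms of those of the blocks; and the corresponding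
statement for units. -/
theorem card_shift_isometries (hτ : ∀ x, τ (τ x) = x) (hne : τ ≠ RingHom.id K) :
    ∃ N : ℕ, 0 < N ∧
      Nat.card {h : Matrix (Ix d) (Ix d) K // Commute h (jshift d) ∧ IsUnit h} =
        N ^ 2 * Nat.card {B : Matrix (Fin t) (Fin t) K // B ∈ blockRing d ∧ IsUnit B} ∧
      Nat.card {h : Matrix (Ix d) (Ix d) K // Commute h (jshift d) ∧ jstar d τ h * h = 1} =
        N * Nat.card {B : Matrix (Fin t) (Fin t) K // B ∈ blockRing d ∧ conjT τ B * B = 1} := by
  classical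
  obtain ⟨c, hc⟩ : ∃ c, τ c ≠ c := by
    by_contra hall
    push Not at hall
    exact hne (RingHom.ext hall)
  let R : Subring (Matrix (Ix d) (Ix d) K) := commutantRing d
  have hR : ∀ {h}, h ∈ R ↔ Commute h (jshift d) := mem_commutantRing
  let f : R →+ Matrix (Fin t) (Fin t) K :=
    AddMonoidHom.mk' (fun h => lead d hd h.1) fun a b => lead_add hd a.1 b.1
  let Rsa : AddSubgroup R :=
    { carrier := {h | jstar d τ h.1 = h.1}
      add_mem' := fun {a b} ha hb => by
        show jstar d τ (a.1 + b.1) = a.1 + b.1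
        rw [jstar_add, ha, hb]
      zero_mem' := by show jstar d τ 0 = 0; simp [jstar, conjT]
      neg_mem' := fun {a} ha => by
        show jstar d τ (-a.1) = -a.1
        have h1 : jstar d τ (-a.1) + jstar d τ a.1 = 0 := by
          rw [← jstar_add, neg_add_cancel]; simp [jstar, conjT]
        rw [ha] at h1
        exact eq_neg_of_add_eq_zero_left h1 }
  let fs : Rsa →+ Matrix (Fin t) (Fin t) K := f.comp Rsa.subtype
  have hscR : ∀ e : K, Matrix.scalar (Ix d) e ∈ R := fun e =>
    hR.2 (Matrix.scalar_commute e (fun r' => mul_comm e r') _)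
  have hunit : ∀ h : R, IsUnit (h : Matrix (Ix d) (Ix d) K) ↔ IsUnit (f h) := by
    intro h
    constructor
    · rintro ⟨u, hu⟩
      have hu' : (↑u⁻¹ : Matrix (Ix d) (Ix d) K) ∈ R := hR.2 (Commute.units_inv_left (by rw [hu]; exact hR.1 h.2))
      refine IsUnit.of_mul_eq_one (lead d hd (↑u⁻¹ : Matrix (Ix d) (Ix d) K)) ?_
      show lead d hd h.1 * lead d hd _ = 1
      rw [← lead_mul hd (hR.1 h.2) (hR.1 hu'), ← hu, Units.mul_inv, lead_one]
    · rintro ⟨u, hu⟩
      have hN : 0 < orderOf u := orderOf_pos u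
      have hpow : ∀ m : ℕ, lead d hd (h.1 ^ m) = (u : Matrix (Fin t) (Fin t) K) ^ m := fun m => by
        induction m with
        | zero => rw [pow_zero, pow_zero, lead_one]
        | succ m ih =>
          rw [pow_succ, lead_mul hd ((hR.1 h.2).pow_left m) (hR.1 h.2), ih, pow_succ]
          rw [show lead d hd h.1 = (u : Matrix (Fin t) (Fin t) K) from hu.symm]
      have hnil : IsNilpotent (h.1 ^ orderOf u - 1) := by
        refine isNilpotent_of_lead_eq_zero hd (((hR.1 h.2).pow_left _).sub_left (Commute.one_left _)) ?_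
        rw [lead_sub, hpow, ← Units.val_pow_eq_pow_val, pow_orderOf_eq_one, lead_one, Units.val_one, sub_self]
      have h1 := hnil.isUnit_one_add
      rw [add_sub_cancel] at h1
      exact (isUnit_pow_iff hN.ne').1 h1
  have hsurj : ∀ B, B ∈ blockRing (K := K) d → ∃ h : R, f h = B := fun B hB => by
    obtain ⟨h, hh, hhB⟩ := lead_surj hd B hB
    exact ⟨⟨h, hR.2 hh⟩, hhB⟩
  have hstar : ∀ h : Matrix (Ix d) (Ix d) K, h ∈ R → jstar d τ h ∈ R := fun h hh =>
    hR.2 (jstar_comm τ (hR.1 hh))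
  obtain ⟨e, he⟩ : ∃ e : K, e + τ e = 1 := by
    refine ⟨c * (c - τ c)⁻¹, ?_⟩
    have hne' : c - τ c ≠ 0 := sub_ne_zero.2 (Ne.symm hc)
    rw [map_mul, map_inv₀, map_sub, hτ, ← neg_sub c (τ c), inv_neg, mul_neg, ← sub_eq_add_neg,
      ← sub_mul, mul_inv_cancel₀ hne']
  let herm : R → Rsa := fun h => ⟨⟨Matrix.scalar (Ix d) e * h.1 + jstar d τ (Matrix.scalar (Ix d) e * h.1),
      add_mem (mul_mem (hscR e) h.2) (hstar _ (mul_mem (hscR e) h.2))⟩, by
    show jstar d τ (_ + _) = _ + _
    rw [jstar_add, jstar_jstar τ hτ, add_comm]⟩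
  have hssurj : ∀ B, B ∈ blockRing (K := K) d ∧ conjT τ B = B → ∃ h : Rsa, fs h = B := by
    rintro B ⟨hB, hBsym⟩
    obtain ⟨h, hh⟩ := hsurj B hB
    refine ⟨herm h, ?_⟩
    show lead d hd (_ + _) = B
    rw [lead_add, lead_jstar hd τ (hR.1 (mul_mem (hscR e) h.2)), show Matrix.scalar (Ix d) e * h.1 = e • h.1 by
      rw [Matrix.scalar_apply, ← Matrix.smul_eq_diagonal_mul], lead_smul, show lead d hd h.1 = B from hh,
      conjT_smul, hBsym, ← add_smul, he, one_smul]
  -- the kernel is twice its Hermitian part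
  have hker : Nat.card f.ker = Nat.card fs.ker * Nat.card fs.ker := by
    rw [← Nat.card_prod]
    have hcne : c - τ c ≠ 0 := sub_ne_zero.2 (Ne.symm hc)
    have hsame : ∀ a : Rsa, jstar d τ a.1.1 = a.1.1 := fun a => a.2
    refine (Nat.card_eq_of_bijective (fun z : fs.ker × fs.ker =>
      (⟨⟨(z.1.1.1.1 : Matrix (Ix d) (Ix d) K) + c • z.2.1.1.1,
        add_mem z.1.1.1.2 (by
          rw [show c • (z.2.1.1.1 : Matrix (Ix d) (Ix d) K) = Matrix.scalar (Ix d) c * z.2.1.1.1 by
            rw [Matrix.scalar_apply, ← Matrix.smul_eq_diagonal_mul]]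
          exact mul_mem (hscR c) z.2.1.1.2)⟩, by
        rw [AddMonoidHom.mem_ker]
        show lead d hd (_ + c • _) = 0
        rw [lead_add, lead_smul, show lead d hd z.1.1.1.1 = 0 from AddMonoidHom.mem_ker.1 z.1.2,
          show lead d hd z.2.1.1.1 = 0 from AddMonoidHom.mem_ker.1 z.2.2, smul_zero, add_zero]⟩ : f.ker))
      ⟨?_, ?_⟩).symm
    · intro z w h
      have h1 : (z.1.1.1.1 : Matrix (Ix d) (Ix d) K) + c • z.2.1.1.1 = w.1.1.1.1 + c • w.2.1.1.1 :=
        congrArg (fun x : f.ker => x.1.1) h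
      have h2 := congrArg (jstar d τ) h1
      have hsm : ∀ (k : K) (x : Matrix (Ix d) (Ix d) K), jstar d τ (k • x) = τ k • jstar d τ x := fun k x => by
        simp only [jstar, conjT_smul, Matrix.mul_smul, Matrix.smul_mul]
      rw [jstar_add, jstar_add, hsm, hsm, hsame, hsame, hsame, hsame] at h2
      have h3 : (c - τ c) • z.2.1.1.1 = (c - τ c) • w.2.1.1.1 := by
        rw [sub_smul, sub_smul]
        linear_combination (norm := module) h1 - h2
      have h4 := smul_right_injective _ hcne h3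
      have h5 : z.1.1.1.1 = w.1.1.1.1 := by rw [h4] at h1; exact add_right_cancel h1
      exact Prod.ext (Subtype.ext (Subtype.ext (Subtype.ext h5))) (Subtype.ext (Subtype.ext (Subtype.ext h4)))
    · rintro ⟨⟨a, haR⟩, ha⟩
      have ha0 : lead d hd a = 0 := AddMonoidHom.mem_ker.1 ha
      have hsa : lead d hd (jstar d τ a) = 0 := by
        rw [lead_jstar hd τ (hR.1 haR), ha0]; ext i j; simp [conjT]
      have hsm : ∀ (k : K) (x : Matrix (Ix d) (Ix d) K), jstar d τ (k • x) = τ k • jstar d τ x := fun k x => by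
        simp only [jstar, conjT_smul, Matrix.mul_smul, Matrix.smul_mul]
      have hmem : ∀ k : K, ∀ x ∈ R, k • x ∈ R := fun k x hx => hR.2 ((hR.1 hx).smul_left k)
      let y : Matrix (Ix d) (Ix d) K := (c - τ c)⁻¹ • (a - jstar d τ a)
      have hy : y ∈ R := hmem _ _ (sub_mem haR (hstar a haR))
      have hys : jstar d τ y = y := by
        have hsub : jstar d τ (a - jstar d τ a) = jstar d τ a - a := by
          have := jstar_add τ (a - jstar d τ a) (jstar d τ a)
          rw [sub_add_cancel, jstar_jstar τ hτ] at this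
          exact eq_sub_of_add_eq this.symm
        show jstar d τ (_ • _) = _ • _
        rw [hsm, hsub, map_inv₀, map_sub, hτ, ← neg_sub c (τ c), inv_neg, neg_smul, ← smul_neg, neg_sub]
      let x : Matrix (Ix d) (Ix d) K := a - c • y
      have hx : x ∈ R := sub_mem haR (hmem _ _ hy)
      have hxs : jstar d τ x = x := by
        have := jstar_add τ x (c • y)
        rw [sub_add_cancel, hsm, hys] at this
        rw [eq_sub_of_add_eq this.symm]
        show _ = a - c • y
        have hy2 : (c - τ c) • y = a - jstar d τ a := by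
          simp only [y, smul_smul, mul_inv_cancel₀ hcne, one_smul]
        rw [sub_smul] at hy2
        linear_combination (norm := module) hy2
      have hy0 : lead d hd y = 0 := by rw [lead_smul, lead_sub, ha0, hsa, sub_zero, smul_zero]
      have hx0 : lead d hd x = 0 := by rw [lead_sub, lead_smul, ha0, hy0, smul_zero, sub_zero]
      exact ⟨(⟨⟨⟨x, hx⟩, hxs⟩, hx0⟩, ⟨⟨⟨y, hy⟩, hys⟩, hy0⟩),
        Subtype.ext (Subtype.ext (sub_add_cancel a (c • y)))⟩
  have hkne : Nonempty fs.ker := ⟨⟨0, fs.ker.zero_mem⟩⟩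
  have hkfin : Finite fs.ker := Finite.of_injective (fun z : fs.ker => (z.1.1.1 : Matrix (Ix d) (Ix d) K))
    fun _ _ h => Subtype.ext (Subtype.ext (Subtype.ext h))
  have hkpos : 0 < Nat.card fs.ker := @Nat.card_pos _ hkne hkfin
  refine ⟨Nat.card fs.ker, hkpos, ?_⟩
  have hU : Nat.card {h : Matrix (Ix d) (Ix d) K // h ∈ R ∧ IsUnit h} =
      Nat.card f.ker * Nat.card {B : Matrix (Fin t) (Fin t) K // B ∈ blockRing d ∧ IsUnit B} := by
    rw [← card_preimage f _ fun B hB => hsurj B hB.1]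
    refine Nat.card_congr
      { toFun := fun h => ⟨⟨h.1, h.2.1⟩, lead_isBlock hd h.1, (hunit ⟨h.1, h.2.1⟩).1 h.2.2⟩
        invFun := fun h => ⟨h.1.1, h.1.2, (hunit h.1).2 h.2.2⟩
        left_inv := fun _ => rfl
        right_inv := fun _ => rfl }
  have hS : Nat.card {h : Matrix (Ix d) (Ix d) K // h ∈ R ∧ IsUnit h ∧ jstar d τ h = h} =
      Nat.card fs.ker *
        Nat.card {B : Matrix (Fin t) (Fin t) K // B ∈ blockRing d ∧ IsUnit B ∧ conjT τ B = B} := by
    rw [← card_preimage fs _ fun B hB => hssurj B ⟨hB.1, hB.2.2⟩]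
    refine Nat.card_congr
      { toFun := fun h => ⟨⟨⟨h.1, h.2.1⟩, h.2.2.2⟩, lead_isBlock hd h.1, (hunit ⟨h.1, h.2.1⟩).1 h.2.2.1, by
          show conjT τ (lead d hd h.1) = lead d hd h.1
          rw [← lead_jstar hd τ (hR.1 h.2.1), h.2.2.2]⟩
        invFun := fun h => ⟨h.1.1.1, h.1.1.2, (hunit h.1.1).2 h.2.2.1, h.1.2⟩
        left_inv := fun _ => rfl
        right_inv := fun _ => rfl }
  have e1 := card_units_eq_mul τ hne R hscR (jstar d τ) (jstar_add τ) (jstar_mul τ) (jstar_jstar τ hτ)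
    (jstar_scalar τ) hstar
  have e2 := card_units_eq_mul τ hne (blockRing d)
    (fun e k l h => by rw [Matrix.scalar_apply, Matrix.diagonal_apply_ne _ fun h' => h (congrArg d h')])
    (conjT τ) (conjT_add τ) (conjT_mul τ) (conjT_conjT τ hτ) (conjT_scalar τ)
    (fun B hB k l h => by
      show τ (B l k) = 0
      rw [hB l k (Ne.symm h), map_zero])
  have hcom : ∀ P : Matrix (Ix d) (Ix d) K → Prop,
      Nat.card {h : Matrix (Ix d) (Ix d) K // Commute h (jshift d) ∧ P h} =
        Nat.card {h : Matrix (Ix d) (Ix d) K // h ∈ R ∧ P h} := fun P =>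
    Nat.card_congr (Equiv.subtypeEquivRight fun h => and_congr_left' hR.symm)
  rw [hcom, hcom, pow_two, ← hker]
  refine ⟨hU, ?_⟩
  rw [hU, hS, hker, e2] at e1
  have hSpos : 0 < Nat.card {B : Matrix (Fin t) (Fin t) K // B ∈ blockRing d ∧ IsUnit B ∧ conjT τ B = B} := by
    have : Nonempty {B : Matrix (Fin t) (Fin t) K // B ∈ blockRing d ∧ IsUnit B ∧ conjT τ B = B} :=
      ⟨⟨1, one_mem _, isUnit_one, conjT_one τ⟩⟩
    exact Nat.card_pos
  refine Nat.eq_of_mul_eq_mul_left (Nat.mul_pos hkpos hSpos) ?_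
  linear_combination -e1

end CfsgLib.UnitaryUnip
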