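import Cfsg.Agent.Lib.UnitaryUnip.SelfAdjoint
import Cfsg.Agent.Helper57RegNilp

/-!
Regular unipotent matrices: similarity and centralisers.
-/

set_option autoImplicit false
set_option linter.unusedSectionVars false

namespace CfsgLib.UnitaryUnip

open Matrix

variable {K : Type*} [Field K] {n : ℕ}

theorem rank_ker_le_one {N : Matrix (Fin n) (Fin n) K} (hn : 1 ≤ n) (hr : N.rank = n - 1) :
    Module.finrank K (LinearMap.ker N.mulVecLin) ≤ 1 :=
  (Cfsg.Agent.RegNilp.finrank_ker_of_rank N (k := 1) (by rw [Fintype.card_fin]; exact hr)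
    (by rw [Fintype.card_fin]; exact hn)).le

theorem regular_similar {N M : Matrix (Fin n) (Fin n) K} (hn : 1 ≤ n) (hN : N ^ n = 0)
    (hNr : N.rank = n - 1) (hM : M ^ n = 0) (hMr : M.rank = n - 1) :
    ∃ g : GL (Fin n) K, (g : Matrix (Fin n) (Fin n) K) * N = M * (g : Matrix (Fin n) (Fin n) K) := by
  obtain ⟨T, hT⟩ := Cfsg.Agent.RegNilp.exists_conj (f := N.mulVecLin) (n := n)
    (Module.finrank_fin_fun K) hn (by rw [← Cfsg.Agent.RegNilp.mulVecLin_pow, hN, Matrix.mulVecLin_zero])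
    (rank_ker_le_one hn hNr) (g := M.mulVecLin) (Module.finrank_fin_fun K)
    (by rw [← Cfsg.Agent.RegNilp.mulVecLin_pow, hM, Matrix.mulVecLin_zero]) (rank_ker_le_one hn hMr)
  refine ⟨⟨LinearMap.toMatrix' T.toLinearMap, LinearMap.toMatrix' T.symm.toLinearMap,
    by simp [← LinearMap.toMatrix'_comp], by simp [← LinearMap.toMatrix'_comp]⟩, ?_⟩
  refine Matrix.ext_of_mulVec_single fun j => ?_
  simp only [← mulVec_mulVec, LinearMap.toMatrix'_mulVec]
  exact LinearMap.congr_fun hT _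

variable {p : ℕ} [Fact p.Prime] [CharP K p]

/-- What commutes with a regular nilpotent has a `p`-power scalar, and determinant an `n`-th power. -/
theorem exists_of_commute_regular {N k : Matrix (Fin n) (Fin n) K} (hn : 1 ≤ n) (hN : N ^ n = 0)
    (hr : N.rank = n - 1) (hk : Commute k N) :
    ∃ (c : K) (s : ℕ), k ^ p ^ s = (c ^ p ^ s) • (1 : Matrix (Fin n) (Fin n) K) ∧ k.det = c ^ n := by
  have : NeZero n := ⟨by omega⟩
  have : CharP (Matrix (Fin n) (Fin n) K) p := charP_of_injective_algebraMap (algebraMap K _).injective p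
  have hf : (N.mulVecLin : Module.End K (Fin n → K)) ^ n = 0 := by
    rw [← Cfsg.Agent.RegNilp.mulVecLin_pow, hN, Matrix.mulVecLin_zero]
  obtain ⟨e, he⟩ := Cfsg.Agent.RegNilp.exists_pow_pred_ne (f := N.mulVecLin) (n := n)
    (Module.finrank_fin_fun K) hn (rank_ker_le_one hn hr)
  let b := Cfsg.Agent.RegNilp.orbitBasis (Module.finrank_fin_fun K) hf he hn
  have hb : ∀ i : Fin n, b i = (N ^ (i : ℕ)) *ᵥ e := fun i => by
    rw [Cfsg.Agent.RegNilp.orbitBasis_apply, ← Cfsg.Agent.RegNilp.mulVecLin_pow, Matrix.mulVecLin_apply]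
  let a : Fin n → K := fun i => b.repr (k *ᵥ e) i
  have hke : k *ᵥ e = ∑ i, a i • ((N ^ (i : ℕ)) *ᵥ e) := by
    simp only [← hb]
    exact (b.sum_repr _).symm
  have hkR : k = ∑ i, a i • N ^ (i : ℕ) := by
    refine Matrix.toLin'.injective (b.ext fun j => ?_)
    rw [Matrix.toLin'_apply, Matrix.toLin'_apply, hb, mulVec_mulVec, (hk.pow_right _).eq, ← mulVec_mulVec,
      hke, Matrix.sum_mulVec, Matrix.mulVec_sum]
    refine Finset.sum_congr rfl fun i _ => ?_
    rw [Matrix.mulVec_smul, Matrix.smul_mulVec, mulVec_mulVec, mulVec_mulVec, ← pow_add, ← pow_add,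
      add_comm]
  let i₀ : Fin n := ⟨0, hn⟩
  have hnil : IsNilpotent (k - a i₀ • (1 : Matrix (Fin n) (Fin n) K)) := by
    rw [hkR, ← Finset.add_sum_erase _ _ (Finset.mem_univ i₀), show (i₀ : ℕ) = 0 from rfl, pow_zero,
      add_sub_cancel_left]
    refine Commute.isNilpotent_sum (fun i hi => ?_) fun i j _ _ =>
      (((Commute.refl N).pow_pow _ _).smul_left _).smul_right _
    have h0 : (i : ℕ) ≠ 0 := fun h => (Finset.mem_erase.1 hi).1 (Fin.ext h)
    refine IsNilpotent.smul ⟨n, ?_⟩ _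
    rw [← pow_mul, pow_eq_zero_of_le (Nat.le_mul_of_pos_left n (Nat.pos_of_ne_zero h0)) hN]
  obtain ⟨j, hj⟩ := hnil
  have hp : p.Prime := Fact.out
  have hpow : k ^ p ^ j = (a i₀ ^ p ^ j) • (1 : Matrix (Fin n) (Fin n) K) := by
    have h1 := pow_eq_zero_of_le (Nat.lt_pow_self hp.one_lt).le hj
    rw [sub_pow_char_pow_of_commute p j ((Commute.one_right k).smul_right _), smul_pow, one_pow, sub_eq_zero] at h1
    exact h1
  refine ⟨a i₀, j, hpow, ?_⟩
  have h2 := congrArg Matrix.det hpow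
  rw [Matrix.det_pow, Matrix.det_smul, Matrix.det_one, mul_one, Fintype.card_fin, ← pow_mul,
    mul_comm (p ^ j), pow_mul] at h2
  have h3 : (k.det - a i₀ ^ n) ^ p ^ j = 0 := by rw [sub_pow_char_pow, h2, sub_self]
  exact sub_eq_zero.1 (eq_zero_of_pow_eq_zero h3)

theorem det_eq_one_of_unipotent {p : ℕ} [Fact p.Prime] [CharP K p] {g : Matrix (Fin n) (Fin n) K} (hg : IsNilpotent (g - 1)) : g.det = 1 := by
  rcases Nat.eq_zero_or_pos n with h0 | h0
  · subst h0; exact Matrix.det_fin_zero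
  have : NeZero n := ⟨h0.ne'⟩
  have : CharP (Matrix (Fin n) (Fin n) K) p := charP_of_injective_algebraMap (algebraMap K _).injective p
  have hp : p.Prime := Fact.out
  obtain ⟨j, hj⟩ := hg
  have h1 := pow_eq_zero_of_le (Nat.lt_pow_self hp.one_lt).le hj
  rw [sub_pow_char_pow_of_commute p j (Commute.one_right _), one_pow, sub_eq_zero] at h1
  have h2 := congrArg Matrix.det h1
  rw [Matrix.det_pow, Matrix.det_one] at h2
  have h3 : (g.det - 1) ^ p ^ j = 0 := by rw [sub_pow_char_pow, h2, one_pow, sub_self]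
  exact sub_eq_zero.1 (eq_zero_of_pow_eq_zero h3)

end CfsgLib.UnitaryUnip
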