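import Cfsg.Agent.Lib.IsomConj.Unitary
import Cfsg.Agent.Helper57UnipClass

/-!
Nilpotent matrices are similar to Hermitian ones; every unipotent type occurs in the unitary group.
-/

set_option autoImplicit false
set_option linter.unusedSectionVars false

namespace CfsgLib.UnitaryUnip

open Matrix CfsgLib.UnitaryEmbed CfsgLib.IsomConj

variable {K : Type*} [Field K] {α : Type*} [Fintype α] [DecidableEq α]

/-- The adjoint for `τ`. -/
def conjT (τ : K →+* K) {β : Type*} (M : Matrix α β K) : Matrix β α K := (M.map τ)ᵀ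

variable (τ : K →+* K)

theorem conjT_mul (A B : Matrix α α K) : conjT τ (A * B) = conjT τ B * conjT τ A := by
  show ((A * B).map τ)ᵀ = _
  rw [Matrix.map_mul, transpose_mul]
  rfl

theorem conjT_add (A B : Matrix α α K) : conjT τ (A + B) = conjT τ A + conjT τ B := by
  show ((A + B).map τ)ᵀ = _
  rw [Matrix.map_add _ (map_add τ), transpose_add]
  rfl

theorem conjT_one : conjT τ (1 : Matrix α α K) = 1 := by
  show ((1 : Matrix α α K).map τ)ᵀ = 1
  rw [Matrix.map_one _ (map_zero τ) (map_one τ), transpose_one]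

theorem conjT_smul (c : K) (A : Matrix α α K) : conjT τ (c • A) = τ c • conjT τ A := by
  ext i j
  simp [conjT]

theorem conjT_conjT (hτ : ∀ x, τ (τ x) = x) (A : Matrix α α K) : conjT τ (conjT τ A) = A := by
  ext i j
  exact hτ _

theorem conjT_pow (A : Matrix α α K) (k : ℕ) : conjT τ (A ^ k) = conjT τ A ^ k := by
  induction k with
  | zero => rw [pow_zero, pow_zero, conjT_one]
  | succ k ih => rw [pow_succ, conjT_mul, ih, pow_succ']

variable [Fintype K]

/-- A Hermitian invertible matrix is of the form `a* a`, `a` commuting with what commutes with it. -/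
theorem exists_conjT_mul_self (hτ : ∀ x, τ (τ x) = x) (hne : τ ≠ RingHom.id K) {S : Matrix α α K}
    (hS : IsUnit S) (hSτ : conjT τ S = S) :
    ∃ a : GL α K, conjT τ (a : Matrix α α K) * (a : Matrix α α K) = S ∧
      ∀ X : Matrix α α K, Commute X S → Commute X (a : Matrix α α K) := by
  obtain ⟨c, hc⟩ : ∃ c, τ c ≠ c := by
    by_contra hall
    push Not at hall
    exact hne (RingHom.ext hall)
  have hTs : ∀ d, conjT τ (Matrix.scalar α d) = Matrix.scalar α (τ d) := fun d => by
    ext i j; by_cases hij : i = j <;> simp [conjT, Matrix.scalar_apply, hij, Ne.symm]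
  have hsc : ∀ (d : K) (M : Matrix α α K), Matrix.scalar α d * M = M * Matrix.scalar α d :=
    fun d M => Matrix.scalar_commute d (fun r' => mul_comm d r') M
  let G : Set (Matrix α α K) := {S, Matrix.scalar α c, Matrix.scalar α (τ c)}
  obtain ⟨a, haQ, ha⟩ := exists_star_mul_self (A := Matrix α α K) (conjT τ) (conjT_add τ) (conjT_mul τ)
    (conjT_conjT τ hτ) G
    (by rintro a (rfl | rfl | rfl) b (rfl | rfl | rfl) <;>
      first | rfl | exact hsc _ _ | exact (hsc _ _).symm)
    (by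
      rintro a (rfl | rfl | rfl)
      · rw [hSτ]; exact Subring.subset_closure (Or.inl rfl)
      · rw [hTs]; exact Subring.subset_closure (Or.inr (Or.inr rfl))
      · rw [hTs, hτ]; exact Subring.subset_closure (Or.inr (Or.inl rfl)))
    (Matrix.scalar α c) (Subring.subset_closure (Or.inr (Or.inl rfl)))
    (by rw [hTs, ← map_sub]; exact (isUnit_iff_ne_zero.2 (sub_ne_zero.2 (Ne.symm hc))).map _)
    S (Subring.subset_closure (Or.inl rfl)) hS hSτ
  have hua : IsUnit a := by
    rw [← ha, Matrix.isUnit_iff_isUnit_det, Matrix.det_mul, IsUnit.mul_iff] at hS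
    exact (Matrix.isUnit_iff_isUnit_det _).2 hS.2
  refine ⟨hua.unit, ha, fun X hX => ?_⟩
  have : Subring.closure G ≤ Subring.centralizer {X} := by
    refine Subring.closure_le.2 ?_
    rintro b (rfl | rfl | rfl) <;> refine Subring.mem_centralizer_iff.2 fun z hz => ?_ <;>
      rw [Set.mem_singleton_iff.1 hz]
    · exact hX
    · exact (hsc _ _).symm
    · exact (hsc _ _).symm
  exact Subring.mem_centralizer_iff.1 (this haQ) X rfl

/-- Entries of the chain shift. -/
def shiftEntry {t : ℕ} {d : Fin t → ℕ} (s u : (k : Fin t) × Fin (d k)) : K :=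
  if s.1 = u.1 ∧ (s.2 : ℕ) = u.2 + 1 then 1 else 0

/-- The chain-shift matrix attached to block sizes `d`, transported by `e`. -/
def shiftM {t : ℕ} {d : Fin t → ℕ} (e : ((k : Fin t) × Fin (d k)) ≃ α) : Matrix α α K :=
  Matrix.of fun a b => shiftEntry (e.symm a) (e.symm b)

/-- Reversal inside each block. -/
def revPerm {t : ℕ} {d : Fin t → ℕ} (e : ((k : Fin t) × Fin (d k)) ≃ α) : Equiv.Perm α :=
  e.symm.trans ((Equiv.sigmaCongrRight fun k => (Fin.revPerm : Equiv.Perm (Fin (d k)))).trans e)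

/-- The Hermitian form making the shift self-adjoint. -/
def revM {t : ℕ} {d : Fin t → ℕ} (e : ((k : Fin t) × Fin (d k)) ≃ α) : Matrix α α K :=
  Matrix.of fun a b => if revPerm e a = b then 1 else 0

section Shift

variable {t : ℕ} {d : Fin t → ℕ} (e : ((k : Fin t) × Fin (d k)) ≃ α)

theorem revPerm_revPerm (a : α) : revPerm e (revPerm e a) = a := by
  obtain ⟨⟨k, i⟩, rfl⟩ := e.surjective a
  simp [revPerm]

theorem revPerm_apply (k : Fin t) (i : Fin (d k)) : revPerm e (e ⟨k, i⟩) = e ⟨k, i.rev⟩ := by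
  simp [revPerm]

theorem revM_mul (X : Matrix α α K) (a b : α) : ((revM e : Matrix α α K) * X) a b = X (revPerm e a) b := by
  simp [revM, Matrix.mul_apply]

theorem mul_revM (X : Matrix α α K) (a b : α) : (X * (revM e : Matrix α α K)) a b = X a (revPerm e b) := by
  rw [Matrix.mul_apply, Finset.sum_eq_single (revPerm e b) (fun j _ hj => ?_) fun h => absurd (Finset.mem_univ _) h]
  · simp [revM, revPerm_revPerm]
  · simp only [revM, Matrix.of_apply]
    rw [if_neg fun h => hj (by rw [← h, revPerm_revPerm]), mul_zero]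

theorem revM_mul_self : (revM e : Matrix α α K) * revM e = 1 := by
  ext a b
  rw [revM_mul, Matrix.one_apply]
  simp [revM, revPerm_revPerm]

theorem conjT_revM : conjT τ (revM e : Matrix α α K) = revM e := by
  ext a b
  simp only [conjT, revM, Matrix.transpose_apply, Matrix.map_apply, Matrix.of_apply]
  by_cases h : revPerm e a = b
  · rw [if_pos h, if_pos (by rw [← h, revPerm_revPerm]), map_one]
  · rw [if_neg h, if_neg fun h' => h (by rw [← h', revPerm_revPerm]), map_zero]

theorem revM_shiftM :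
    (revM e : Matrix α α K) * shiftM e = conjT τ (shiftM e : Matrix α α K) * revM e := by
  ext a b
  rw [revM_mul, mul_revM]
  obtain ⟨⟨k, i⟩, rfl⟩ := e.surjective a
  obtain ⟨⟨l, j⟩, rfl⟩ := e.surjective b
  simp only [conjT, shiftM, revPerm_apply, Matrix.transpose_apply, Matrix.map_apply, Matrix.of_apply,
    Equiv.symm_apply_apply]
  simp only [shiftEntry, apply_ite τ, map_one, map_zero]
  refine if_congr ⟨?_, ?_⟩ rfl rfl
  · rintro ⟨rfl, h⟩
    simp only [Fin.val_rev] at h ⊢
    exact ⟨trivial, by omega⟩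
  · rintro ⟨rfl, h⟩
    simp only [Fin.val_rev] at h ⊢
    exact ⟨trivial, by omega⟩

end Shift

variable {n : ℕ}

theorem exists_shift_similar (N : Matrix (Fin n) (Fin n) K) (hN : IsNilpotent N) :
    ∃ (t : ℕ) (d : Fin t → ℕ) (e : ((k : Fin t) × Fin (d k)) ≃ Fin n) (P : GL (Fin n) K),
      N * (P : Matrix (Fin n) (Fin n) K) = (P : Matrix (Fin n) (Fin n) K) * shiftM e := by
  obtain ⟨C⟩ := Cfsg.Agent.Jordan57.exists_chains
    (hN.map (Matrix.toLinAlgEquiv' (R := K) (n := Fin n)))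
  let e : ((k : Fin C.r) × Fin (C.d k)) ≃ Fin n := C.b.indexEquiv (Pi.basisFun K (Fin n))
  let P : Matrix (Fin n) (Fin n) K := (Pi.basisFun K (Fin n)).toMatrix (C.b.reindex e)
  have hP : IsUnit P := IsUnit.of_mul_eq_one _
    ((Pi.basisFun K (Fin n)).toMatrix_mul_toMatrix_flip (C.b.reindex e))
  refine ⟨C.r, C.d, e, hP.unit, Matrix.ext fun i j => ?_⟩
  rw [IsUnit.unit_spec]
  obtain ⟨s, rfl⟩ := e.surjective j
  have h1 : (N * P) i (e s) = (Matrix.toLinAlgEquiv' N (C.b s)) i := by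
    rw [Matrix.toLinAlgEquiv'_apply]
    simp [P, Matrix.mulVec, dotProduct, Matrix.mul_apply, Module.Basis.toMatrix_apply]
  have h2 : Matrix.toLinAlgEquiv' N (C.b s) =
      if h : (s.2 : ℕ) + 1 < C.d s.1 then C.b ⟨s.1, ⟨(s.2 : ℕ) + 1, h⟩⟩ else 0 := by
    rw [← C.pow_b 1 s, pow_one]
  rw [h1, h2, Matrix.mul_apply]
  split_ifs with h
  · rw [Finset.sum_eq_single (e ⟨s.1, ⟨(s.2 : ℕ) + 1, h⟩⟩) (fun b _ hb => ?_)
      (fun h' => absurd (Finset.mem_univ _) h')]
    · simp only [shiftM, Matrix.of_apply, Equiv.symm_apply_apply]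
      simp [P, shiftEntry, Module.Basis.toMatrix_apply]
    · obtain ⟨u, rfl⟩ := e.surjective b
      simp only [shiftM, Matrix.of_apply, Equiv.symm_apply_apply]
      rw [shiftEntry, if_neg, mul_zero]
      rintro ⟨hu1, hu2⟩
      refine hb (congrArg e ?_)
      obtain ⟨k, l⟩ := u
      simp only at hu1 hu2 ⊢
      subst hu1
      exact congrArg (Sigma.mk _) (Fin.ext hu2)
  · rw [Pi.zero_apply, Finset.sum_eq_zero]
    intro b _
    obtain ⟨⟨k, l⟩, rfl⟩ := e.surjective b
    simp only [shiftM, Matrix.of_apply, Equiv.symm_apply_apply]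
    rw [shiftEntry, if_neg, mul_zero]
    rintro ⟨rfl, hu2⟩
    simp only at hu2
    have := l.isLt
    omega

/-- A nilpotent matrix is similar to a Hermitian one. -/
theorem exists_hermitian_similar (hτ : ∀ x, τ (τ x) = x) (hne : τ ≠ RingHom.id K)
    (N : Matrix (Fin n) (Fin n) K) (hN : IsNilpotent N) :
    ∃ g : GL (Fin n) K, conjT τ ((g : Matrix (Fin n) (Fin n) K) * N * (↑g⁻¹ : Matrix (Fin n) (Fin n) K)) =
      (g : Matrix (Fin n) (Fin n) K) * N * (↑g⁻¹ : Matrix (Fin n) (Fin n) K) := by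
  obtain ⟨t, d, e, P, hP⟩ := exists_shift_similar N hN
  obtain ⟨a, ha, -⟩ := exists_conjT_mul_self τ hτ hne
    (IsUnit.of_mul_eq_one _ (revM_mul_self (K := K) e)) (conjT_revM τ e)
  refine ⟨a * P⁻¹, ?_⟩
  have h1 : ((a * P⁻¹ : GL (Fin n) K) : Matrix (Fin n) (Fin n) K) * N *
      (↑(a * P⁻¹)⁻¹ : Matrix (Fin n) (Fin n) K) =
      (a : Matrix (Fin n) (Fin n) K) * shiftM e * (↑a⁻¹ : Matrix (Fin n) (Fin n) K) := by
    rw [_root_.mul_inv_rev, inv_inv, Units.val_mul, Units.val_mul]
    calc _ = (a : Matrix (Fin n) (Fin n) K) * ((↑P⁻¹ : Matrix (Fin n) (Fin n) K) *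
          (N * (P : Matrix (Fin n) (Fin n) K))) * (↑a⁻¹ : Matrix (Fin n) (Fin n) K) := by
          simp only [Matrix.mul_assoc]
      _ = _ := by rw [hP, Units.inv_mul_cancel_left]
  rw [h1]
  set A : Matrix (Fin n) (Fin n) K := (a : Matrix (Fin n) (Fin n) K)
  set A' : Matrix (Fin n) (Fin n) K := (↑a⁻¹ : Matrix (Fin n) (Fin n) K)
  have hAA : A' * A = 1 := a.inv_mul
  have hAA' : A * A' = 1 := a.mul_inv
  calc conjT τ (A * shiftM e * A')
      = conjT τ A' * conjT τ (shiftM e) * conjT τ A * (A * A') := by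
        rw [conjT_mul, conjT_mul, hAA', mul_one, Matrix.mul_assoc]
    _ = conjT τ A' * (conjT τ (shiftM e) * (conjT τ A * A)) * A' := by simp only [Matrix.mul_assoc]
    _ = conjT τ A' * (conjT τ A * A * shiftM e) * A' := by rw [ha, revM_shiftM τ e]
    _ = (conjT τ A' * conjT τ A) * A * shiftM e * A' := by simp only [Matrix.mul_assoc]
    _ = A * shiftM e * A' := by rw [← conjT_mul, hAA', conjT_one, one_mul]

/-- Every unipotent element of `GL_n` is similar to a unitary one. -/
theorem exists_GU_isConj {q : ℕ} (hK : Fintype.card K = q ^ 2) (g : GL (Fin n) K)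
    (hg : IsNilpotent ((g : Matrix (Fin n) (Fin n) K) - 1)) :
    ∃ x : Cfsg.GU n K q, IsConj (x : GL (Fin n) K) g := by
  obtain ⟨τ, hτq, hne, hτ⟩ := exists_conj hK
  obtain ⟨c, hc⟩ : ∃ c, τ c ≠ c := by
    by_contra hall
    push Not at hall
    exact hne (RingHom.ext hall)
  obtain ⟨k, hk⟩ := exists_hermitian_similar τ hτ hne _ hg
  set N : Matrix (Fin n) (Fin n) K := (k : Matrix (Fin n) (Fin n) K) *
    ((g : Matrix (Fin n) (Fin n) K) - 1) * (↑k⁻¹ : Matrix (Fin n) (Fin n) K) with hNdef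
  have hNg : ∀ j, N ^ j = (k : Matrix (Fin n) (Fin n) K) * ((g : Matrix (Fin n) (Fin n) K) - 1) ^ j *
      (↑k⁻¹ : Matrix (Fin n) (Fin n) K) := fun j => by rw [hNdef, Units.conj_pow]
  have hN : IsNilpotent N := by
    obtain ⟨j, hj⟩ := hg
    exact ⟨j, by rw [hNg, hj, Matrix.mul_zero, Matrix.zero_mul]⟩
  obtain ⟨u, hu⟩ : IsUnit (1 + τ c • N) :=
    IsNilpotent.isUnit_one_add (hN.smul (τ c))
  let U : Matrix (Fin n) (Fin n) K := (↑u⁻¹ : Matrix (Fin n) (Fin n) K)
  have hcu : Commute N (u : Matrix (Fin n) (Fin n) K) := by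
    rw [hu]; exact (Commute.one_right N).add_right ((Commute.refl N).smul_right _)
  have hcU : Commute N U := hcu.units_inv_right
  let X : Matrix (Fin n) (Fin n) K := (1 + c • N) * U
  have hXu : conjT τ X * X = 1 := by
    have h2 : conjT τ U * (1 + c • N) = 1 := by
      have e1 : conjT τ U * conjT τ (u : Matrix (Fin n) (Fin n) K) * 1 = conjT τ ((u : Matrix _ _ K) * U) := by
        rw [mul_one, conjT_mul]
      rw [Units.mul_inv, conjT_one, hu, conjT_add, conjT_one, conjT_smul, hτ, hk, mul_one] at e1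
      exact e1
    have h3 : conjT τ (1 + c • N) = (u : Matrix (Fin n) (Fin n) K) := by
      rw [hu, conjT_add, conjT_one, conjT_smul, hk]
    have h4 : Commute (u : Matrix (Fin n) (Fin n) K) (1 + c • N) :=
      (Commute.one_right _).add_right (hcu.symm.smul_right _)
    calc conjT τ X * X = conjT τ U * ((u : Matrix (Fin n) (Fin n) K) * (1 + c • N)) * U := by
          rw [conjT_mul, h3]; simp only [X, Matrix.mul_assoc]
      _ = conjT τ U * (1 + c • N) * ((u : Matrix (Fin n) (Fin n) K) * U) := by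
          rw [h4.eq]; simp only [Matrix.mul_assoc]
      _ = 1 := by rw [h2, Units.mul_inv, mul_one]
  obtain ⟨x, hx⟩ : ∃ x : GL (Fin n) K, (x : Matrix (Fin n) (Fin n) K) = X :=
    ⟨(IsUnit.of_mul_eq_one_right _ hXu).unit, IsUnit.unit_spec _⟩
  have hmem : x ∈ Cfsg.GU n K q := by
    rw [mem_GU_iff_ctr hK, hx, show ctr q X = conjT τ X by
      ext a b; exact (hτq _).symm]
    exact hXu
  have hx1 : (x : Matrix (Fin n) (Fin n) K) - 1 = N * ((c - τ c) • U) := by
    calc (x : Matrix (Fin n) (Fin n) K) - 1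
        = (1 + c • N) * U - (u : Matrix (Fin n) (Fin n) K) * U := by rw [hx, Units.mul_inv]
      _ = _ := ?_
    rw [← sub_mul, hu, add_sub_add_left_eq_sub, ← sub_smul, Matrix.smul_mul, Matrix.mul_smul]
  have hV : IsUnit ((c - τ c) • U) := by
    rw [Algebra.smul_def]
    exact ((isUnit_iff_ne_zero.2 (sub_ne_zero.2 (Ne.symm hc))).map
      (algebraMap K (Matrix (Fin n) (Fin n) K))).mul (u⁻¹).isUnit
  have hxpow : ∀ j, ((x : Matrix (Fin n) (Fin n) K) - 1) ^ j = N ^ j * ((c - τ c) • U) ^ j := fun j => by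
    rw [hx1, (hcU.smul_right _).mul_pow]
  refine ⟨⟨x, hmem⟩, Cfsg.Agent.Jordan57.isConj_of_profile ?_ ?_ fun j => ?_⟩
  · obtain ⟨j, hj⟩ := hN
    exact ⟨j, by rw [Cfsg.Agent.Jordan57.nilPart_pow, hxpow, hj, Matrix.zero_mul, Matrix.mulVecLin_zero]⟩
  · obtain ⟨j, hj⟩ := hg
    exact ⟨j, by rw [Cfsg.Agent.Jordan57.nilPart_pow, hj, Matrix.mulVecLin_zero]⟩
  · rw [Cfsg.Agent.Jordan57.nilPart_pow, Cfsg.Agent.Jordan57.nilPart_pow]
    show Matrix.rank _ = Matrix.rank _
    rw [hxpow, Matrix.rank_mul_eq_left_of_isUnit_det _ _ ((Matrix.isUnit_iff_isUnit_det _).1 (hV.pow j)), hNg,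
      Matrix.rank_mul_eq_left_of_isUnit_det _ _ ((Matrix.isUnit_iff_isUnit_det _).1 (k⁻¹).isUnit),
      Matrix.rank_mul_eq_right_of_isUnit_det _ _ ((Matrix.isUnit_iff_isUnit_det _).1 k.isUnit)]

end CfsgLib.UnitaryUnip
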