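import Cfsg.Agent.Lib.UnitaryUnip.SelfAdjoint

/-!
The commutant of a shift matrix: leading blocks, their kernel, and the involution.
-/

set_option autoImplicit false
set_option linter.unusedSectionVars false

namespace CfsgLib.UnitaryUnip

open Matrix

variable {K : Type*} [Field K] [Fintype K] {t : ℕ} (d : Fin t → ℕ)

/-- Positions in blocks of sizes `d`. -/
abbrev Ix : Type := (k : Fin t) × Fin (d k)

/-- The shift on `Ix d`. -/
abbrev jshift : Matrix (Ix d) (Ix d) K := shiftM (Equiv.refl _)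

/-- The reversal matrix on `Ix d`. -/
abbrev jrev : Matrix (Ix d) (Ix d) K := revM (Equiv.refl _)

/-- The adjoint for the form `jrev d`. -/
def jstar (τ : K →+* K) (h : Matrix (Ix d) (Ix d) K) : Matrix (Ix d) (Ix d) K :=
  jrev d * conjT τ h * jrev d

/-- The leading blocks of a matrix, between chains of the same length. -/
def lead (hd : ∀ k, 0 < d k) (h : Matrix (Ix d) (Ix d) K) : Matrix (Fin t) (Fin t) K :=
  Matrix.of fun k l => if d k = d l then h ⟨k, ⟨0, hd k⟩⟩ ⟨l, ⟨0, hd l⟩⟩ else 0

/-- Block diagonal matrices for the partition of `Fin t` by the value of `d`. -/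
def IsBlock (B : Matrix (Fin t) (Fin t) K) : Prop := ∀ k l, d k ≠ d l → B k l = 0

variable {d}

theorem jshift_apply (a b : Ix d) : (jshift d : Matrix (Ix d) (Ix d) K) a b = shiftEntry a b := rfl

theorem jshift_mul (h : Matrix (Ix d) (Ix d) K) (k : Fin t) (i : ℕ) (hi : i < d k) (b : Ix d) :
    (jshift d * h : Matrix (Ix d) (Ix d) K) ⟨k, ⟨i, hi⟩⟩ b =
      if i = 0 then 0 else h ⟨k, ⟨i - 1, by omega⟩⟩ b := by
  rw [Matrix.mul_apply]
  by_cases h0 : i = 0
  · rw [if_pos h0, Finset.sum_eq_zero]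
    rintro ⟨l, j⟩ -
    rw [jshift_apply, shiftEntry, if_neg (fun h' => by simp only at h'; omega), zero_mul]
  · rw [if_neg h0, Finset.sum_eq_single ⟨k, ⟨i - 1, by omega⟩⟩ ?_ fun h' => absurd (Finset.mem_univ _) h']
    · rw [jshift_apply, shiftEntry, if_pos ⟨rfl, by simp only; omega⟩, one_mul]
    · rintro ⟨l, j⟩ - hne
      rw [jshift_apply, shiftEntry]
      rw [if_neg, zero_mul]
      rintro ⟨rfl, hj⟩
      exact hne (congrArg (Sigma.mk _) (Fin.ext (by simp only at hj ⊢; omega)))

theorem mul_jshift (h : Matrix (Ix d) (Ix d) K) (a : Ix d) (l : Fin t) (j : ℕ) (hj : j < d l) :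
    (h * jshift d : Matrix (Ix d) (Ix d) K) a ⟨l, ⟨j, hj⟩⟩ =
      if hj' : j + 1 < d l then h a ⟨l, ⟨j + 1, hj'⟩⟩ else 0 := by
  rw [Matrix.mul_apply]
  split_ifs with hj'
  · rw [Finset.sum_eq_single ⟨l, ⟨j + 1, hj'⟩⟩ ?_ fun h' => absurd (Finset.mem_univ _) h']
    · rw [jshift_apply, shiftEntry, if_pos ⟨rfl, rfl⟩, mul_one]
    · rintro ⟨m, i⟩ - hne
      rw [jshift_apply, shiftEntry]
      rw [if_neg, mul_zero]
      rintro ⟨rfl, hi⟩
      exact hne (congrArg (Sigma.mk _) (Fin.ext hi))
  · rw [Finset.sum_eq_zero]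
    rintro ⟨m, i⟩ -
    rw [jshift_apply, shiftEntry]
    rw [if_neg, mul_zero]
    rintro ⟨rfl, hi⟩
    exact hj' (lt_of_eq_of_lt hi.symm i.isLt)

theorem comm_entry {h : Matrix (Ix d) (Ix d) K} (hc : Commute h (jshift d)) (k : Fin t) :
    ∀ (j : ℕ) (i : ℕ) (hi : i < d k) (l : Fin t) (hj : j < d l),
      h ⟨k, ⟨i, hi⟩⟩ ⟨l, ⟨j, hj⟩⟩ =
        if j ≤ i then h ⟨k, ⟨i - j, by omega⟩⟩ ⟨l, ⟨0, by omega⟩⟩ else 0 := by
  intro j
  induction j with
  | zero => intro i hi l hj; simp
  | succ j ih =>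
    intro i hi l hj
    have e := congrFun (congrFun hc.eq ⟨k, ⟨i, hi⟩⟩) ⟨l, ⟨j, by omega⟩⟩
    rw [mul_jshift, dif_pos hj, jshift_mul] at e
    rw [e]
    by_cases h0 : i = 0
    · rw [if_pos h0, if_neg (by omega)]
    · rw [if_neg h0, ih (i - 1) (by omega) l (by omega)]
      by_cases hji : j + 1 ≤ i
      · rw [if_pos (by omega), if_pos hji]
        congr 3
        omega
      · rw [if_neg (by omega), if_neg hji]

theorem comm_vanish {h : Matrix (Ix d) (Ix d) K} (hc : Commute h (jshift d)) (k l : Fin t) (i : ℕ)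
    (hi : i < d k) (hl : 0 < d l) (hlt : i + d l < d k) :
    h ⟨k, ⟨i, hi⟩⟩ ⟨l, ⟨0, hl⟩⟩ = 0 := by
  have e := congrFun (congrFun hc.eq ⟨k, ⟨i + d l, hlt⟩⟩) ⟨l, ⟨d l - 1, by omega⟩⟩
  rw [mul_jshift, dif_neg (by omega), jshift_mul, if_neg (by omega), comm_entry hc, if_pos (by omega)] at e
  refine Eq.trans ?_ e.symm
  congr 3
  omega

variable (hd : ∀ k, 0 < d k)

theorem lead_isBlock (h : Matrix (Ix d) (Ix d) K) : IsBlock d (lead d hd h) := fun _ _ hkl => if_neg hkl

theorem lead_one : lead d hd (1 : Matrix (Ix d) (Ix d) K) = 1 := by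
  ext k l
  simp only [lead, Matrix.of_apply, Matrix.one_apply]
  by_cases hkl : k = l
  · subst hkl; simp
  · rw [if_neg hkl]
    split_ifs with h1 h2
    · exact absurd (congrArg Sigma.fst h2) hkl
    · rfl
    · rfl

theorem lead_add (g h : Matrix (Ix d) (Ix d) K) : lead d hd (g + h) = lead d hd g + lead d hd h := by
  ext k l
  simp only [lead, Matrix.of_apply, Matrix.add_apply]
  split_ifs <;> simp

theorem lead_sub (g h : Matrix (Ix d) (Ix d) K) : lead d hd (g - h) = lead d hd g - lead d hd h := by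
  ext k l
  simp only [lead, Matrix.of_apply, Matrix.sub_apply]
  split_ifs <;> simp

theorem lead_smul (c : K) (h : Matrix (Ix d) (Ix d) K) : lead d hd (c • h) = c • lead d hd h := by
  ext k l
  simp only [lead, Matrix.of_apply, Matrix.smul_apply]
  split_ifs <;> simp

theorem lead_mul {g h : Matrix (Ix d) (Ix d) K} (hg : Commute g (jshift d)) (hh : Commute h (jshift d)) :
    lead d hd (g * h) = lead d hd g * lead d hd h := by
  ext k l
  rw [Matrix.mul_apply]
  simp only [lead, Matrix.of_apply, Matrix.mul_apply]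
  by_cases hkl : d k = d l
  · rw [if_pos hkl, Fintype.sum_sigma]
    refine Finset.sum_congr rfl fun m _ => ?_
    rw [Finset.sum_eq_single ⟨0, hd m⟩ (fun i _ hi => ?_) fun h' => absurd (Finset.mem_univ _) h']
    · by_cases hkm : d k = d m
      · rw [if_pos hkm, if_pos (hkm.symm.trans hkl)]
      · rw [if_neg hkm, zero_mul]
        rcases lt_or_gt_of_ne hkm with hlt | hgt
        · rw [comm_vanish hh m l 0 (hd m) (hd l) (by omega), mul_zero]
        · rw [comm_vanish hg k m 0 (hd k) (hd m) (by omega), zero_mul]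
    · obtain ⟨i, hi'⟩ := i
      have hi0 : i ≠ 0 := fun h0 => hi (Fin.ext h0)
      rw [comm_entry hg k i 0 (hd k) m hi', if_neg (by omega), zero_mul]
  · rw [if_neg hkl, Finset.sum_eq_zero]
    intro m _
    by_cases hkm : d k = d m
    · rw [if_pos hkm, if_neg fun h' => hkl (hkm.trans h'), mul_zero]
    · rw [if_neg hkm, zero_mul]

theorem lead_jstar (τ : K →+* K) {h : Matrix (Ix d) (Ix d) K} (hh : Commute h (jshift d)) :
    lead d hd (jstar d τ h) = conjT τ (lead d hd h) := by
  ext k l
  simp only [lead, Matrix.of_apply, jstar, conjT, Matrix.transpose_apply, Matrix.map_apply]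
  by_cases hkl : d k = d l
  · rw [if_pos hkl, if_pos hkl.symm, mul_revM, revM_mul]
    have e1 := revPerm_apply (d := d) (Equiv.refl _) k ⟨0, hd k⟩
    have e2 := revPerm_apply (d := d) (Equiv.refl _) l ⟨0, hd l⟩
    simp only [Equiv.refl_apply] at e1 e2
    rw [e1, e2, Matrix.transpose_apply, Matrix.map_apply]
    congr 1
    rw [show (Fin.rev ⟨0, hd l⟩ : Fin (d l)) = ⟨d l - 1, by have := hd l; omega⟩ from Fin.ext (by simp),
      show (Fin.rev ⟨0, hd k⟩ : Fin (d k)) = ⟨d k - 1, by have := hd k; omega⟩ from Fin.ext (by simp),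
      comm_entry hh, if_pos (by omega)]
    congr 3
    omega
  · rw [if_neg hkl, if_neg fun h' => hkl h'.symm, map_zero]

theorem jstar_comm (τ : K →+* K) {h : Matrix (Ix d) (Ix d) K}
    (hh : Commute h (jshift d)) : Commute (jstar d τ h) (jshift d) := by
  have hSM := revM_shiftM τ (K := K) (Equiv.refl (Ix d))
  have hMS : (shiftM (Equiv.refl _) : Matrix (Ix d) (Ix d) K) * jrev d =
      jrev d * conjT τ (shiftM (Equiv.refl _) : Matrix (Ix d) (Ix d) K) := by
    calc (shiftM (Equiv.refl _) : Matrix (Ix d) (Ix d) K) * jrev d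
        = jrev d * jrev d * shiftM (Equiv.refl _) * jrev d := by rw [revM_mul_self, one_mul]
      _ = jrev d * (conjT τ (shiftM (Equiv.refl _) : Matrix (Ix d) (Ix d) K) * jrev d) * jrev d := by
          rw [← hSM]; simp only [Matrix.mul_assoc]
      _ = _ := by rw [Matrix.mul_assoc, Matrix.mul_assoc, revM_mul_self, mul_one]
  have hc : conjT τ (shiftM (Equiv.refl _) : Matrix (Ix d) (Ix d) K) * conjT τ h =
      conjT τ h * conjT τ (shiftM (Equiv.refl _) : Matrix (Ix d) (Ix d) K) := by
    rw [← conjT_mul, ← conjT_mul]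
    exact congrArg _ hh.eq
  show jrev d * conjT τ h * jrev d * jshift d = jshift d * (jrev d * conjT τ h * jrev d)
  calc jrev d * conjT τ h * jrev d * jshift d = jrev d * (conjT τ h * (jrev d * jshift d)) := by
        simp only [Matrix.mul_assoc]
    _ = jrev d * (conjT τ h * conjT τ (shiftM (Equiv.refl _) : Matrix (Ix d) (Ix d) K)) * jrev d := by
        rw [hSM]; simp only [Matrix.mul_assoc]
    _ = jrev d * conjT τ (shiftM (Equiv.refl _) : Matrix (Ix d) (Ix d) K) * conjT τ h * jrev d := by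
        rw [← hc]; simp only [Matrix.mul_assoc]
    _ = _ := by rw [← hMS]; simp only [Matrix.mul_assoc]

theorem lead_surj (B : Matrix (Fin t) (Fin t) K) (hB : IsBlock d B) :
    ∃ h : Matrix (Ix d) (Ix d) K, Commute h (jshift d) ∧ lead d hd h = B := by
  refine ⟨Matrix.of fun a b => if (a.2 : ℕ) = b.2 then B a.1 b.1 else 0, ?_, ?_⟩
  · ext ⟨k, i, hi⟩ ⟨l, j, hj⟩
    rw [mul_jshift, jshift_mul]
    by_cases hkl : d k = d l
    · by_cases hij : i = j + 1
      · rw [dif_pos (by omega), if_neg (by omega)]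
        simp [hij]
      · have h1 : (if hj' : j + 1 < d l then
            (Matrix.of fun a b : Ix d => if (a.2 : ℕ) = b.2 then B a.1 b.1 else 0) ⟨k, ⟨i, hi⟩⟩ ⟨l, ⟨j + 1, hj'⟩⟩
          else 0) = 0 := by
          split_ifs with hj' <;> simp [hij]
        rw [h1]
        split_ifs with h0
        · rfl
        · simp [show i - 1 ≠ j by omega]
    · have h0 := hB k l hkl
      split_ifs <;> simp [h0]
  · ext k l
    simp only [lead, Matrix.of_apply]
    split_ifs with hkl
    · rfl
    · exact (hB k l hkl).symm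

theorem isNilpotent_of_lead_eq_zero {h : Matrix (Ix d) (Ix d) K} (hh : Commute h (jshift d))
    (h0 : lead d hd h = 0) : IsNilpotent h := by
  let D := Finset.univ.sup d
  let w : Ix d → ℕ := fun a => (a.2 : ℕ) * (D + 1) + (D - d a.1)
  have hstep : ∀ a b, h a b ≠ 0 → w b < w a := by
    rintro ⟨k, i, hi⟩ ⟨l, j, hj⟩ hne
    rw [comm_entry hh k j i hi l hj] at hne
    by_cases hji : j ≤ i
    · rw [if_pos hji] at hne
      have hv : ¬ (i - j + d l < d k) := fun hlt => hne (comm_vanish hh k l _ _ _ hlt)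
      have hkD : d k ≤ D := Finset.le_sup (Finset.mem_univ k)
      have hlD : d l ≤ D := Finset.le_sup (Finset.mem_univ l)
      show j * (D + 1) + (D - d l) < i * (D + 1) + (D - d k)
      rcases Nat.eq_or_lt_of_le hji with rfl | hlt
      · have hkl : d k ≠ d l := fun hkl => by
          have := congrFun (congrFun h0 k) l
          simp only [lead, Matrix.of_apply, if_pos hkl, Matrix.zero_apply] at this
          refine hne ?_
          simp only [Nat.sub_self]
          exact this
        omega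
      · have : (j + 1) * (D + 1) ≤ i * (D + 1) := Nat.mul_le_mul_right _ hlt
        rw [add_mul, one_mul] at this
        omega
    · rw [if_neg hji] at hne
      exact absurd rfl hne
  have hpow : ∀ m a b, (h ^ m) a b ≠ 0 → w b + m ≤ w a := by
    intro m
    induction m with
    | zero =>
      intro a b hne
      rw [pow_zero, Matrix.one_apply] at hne
      by_cases hab : a = b
      · rw [hab]; simp
      · rw [if_neg hab] at hne; exact absurd rfl hne
    | succ m ih =>
      intro a b hne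
      rw [pow_succ, Matrix.mul_apply] at hne
      obtain ⟨c, -, hc⟩ := Finset.exists_ne_zero_of_sum_ne_zero hne
      have h1 := ih a c fun h' => hc (by rw [h', zero_mul])
      have h2 := hstep c b fun h' => hc (by rw [h', mul_zero])
      omega
  refine ⟨(Finset.univ.sup w) + 1, Matrix.ext fun a b => ?_⟩
  by_contra hne
  have h1 := hpow _ a b hne
  have h2 : w a ≤ Finset.univ.sup w := Finset.le_sup (Finset.mem_univ a)
  omega

end CfsgLib.UnitaryUnip
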